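import Cfsg.Agent.Lib.Subnormal.Zipper
import Cfsg.Agent.LAE65.Subnormal
import Mathlib.Order.Atoms.Finite

/-!
Extensions of Wielandt's zipper lemma: a subgroup with normal closure the whole group which is
subnormal in all but at most one of the maximal subgroups containing it lies in only one of them.
-/

set_option autoImplicit false

namespace Cfsg.Agent.Zipper62

open Subgroup
open scoped Pointwise

variable {G : Type*} [Group G]

/-- Subnormality inside a subgroup. -/
def SN (A K : Subgroup G) : Prop := (A.subgroupOf K).IsSubnormal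

/-- `A` has normal closure the group, and `P` is a maximal subgroup containing the normalizer of
`A` such that `A` is subnormal in every other maximal subgroup containing it. -/
structure Good (A P : Subgroup G) : Prop where
  closure : normalClosure (A : Set G) = ⊤
  coatom : IsCoatom P
  norm : normalizer (A : Set G) ≤ P
  sn : ∀ M : Subgroup G, IsCoatom M → A ≤ M → M ≠ P → SN A M

theorem Good.le {A P : Subgroup G} (h : Good A P) : A ≤ P := le_normalizer.trans h.norm

theorem mem_conj {x y : G} {H : Subgroup G} :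
    y ∈ MulAut.conj x • H ↔ x⁻¹ * y * x ∈ H := Subnormal.mem_conj

theorem conj_conj (x y : G) (H : Subgroup G) :
    MulAut.conj x • MulAut.conj y • H = MulAut.conj (x * y) • H := by rw [map_mul, mul_smul]

theorem conj_self {x : G} {H : Subgroup G} (hx : x ∈ H) : MulAut.conj x • H = H := by
  ext y
  rw [mem_conj, H.mul_mem_cancel_right hx, H.mul_mem_cancel_left (inv_mem hx)]

theorem conj_isCoatom (x : G) {P : Subgroup G} (hP : IsCoatom P) :
    IsCoatom (MulAut.conj x • P) := by
  refine ⟨Subnormal.conj_ne_top hP.1, fun K hK => ?_⟩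
  by_contra h
  refine Subnormal.conj_ne_top (x := x⁻¹) h (hP.2 _ (lt_of_le_of_ne ?_ fun he => ?_))
  · intro y hy
    rw [mem_conj, inv_inv]
    exact hK.le (mem_conj.2 (by simpa [mul_assoc] using hy))
  · rw [he, conj_conj, mul_inv_cancel, map_one, one_smul] at hK
    exact lt_irrefl _ hK

theorem SN.conj {A K : Subgroup G} (h : SN A K) (x : G) :
    SN (MulAut.conj x • A) (MulAut.conj x • K) := by
  let e : ↥(MulAut.conj x • K) →* ↥K :=
    { toFun := fun y => ⟨x⁻¹ * y * x, mem_conj.1 y.2⟩
      map_one' := Subtype.ext (by simp)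
      map_mul' := fun y z => Subtype.ext (by simp [mul_assoc]) }
  have he : (MulAut.conj x • A).subgroupOf (MulAut.conj x • K) = (A.subgroupOf K).comap e := by
    ext y
    exact mem_conj
  unfold SN
  rw [he]
  exact IsSubnormal.comap e h

theorem SN.sup [Finite G] {A B K : Subgroup G} (hAK : A ≤ K) (hBK : B ≤ K) (hA : SN A K)
    (hB : SN B K) : SN (A ⊔ B) K := by
  unfold SN
  rw [subgroupOf_sup hAK hBK]
  exact LAE65.isSubnormal_sup hA hB

theorem sn_sSup [Finite G] {K : Subgroup G} (S : Set (Subgroup G))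
    (h : ∀ F ∈ S, F ≤ K ∧ SN F K) : SN (sSup S) K := by
  induction S, S.toFinite using Set.Finite.induction_on with
  | empty => rw [sSup_empty]; unfold SN; rw [bot_subgroupOf]; exact IsSubnormal.bot
  | @insert F S _ _ ih =>
    rw [sSup_insert]
    exact SN.sup (h F (Set.mem_insert _ _)).1
      (sSup_le fun E hE => (h E (Set.mem_insert_of_mem _ hE)).1)
      (h F (Set.mem_insert _ _)).2 (ih fun E hE => h E (Set.mem_insert_of_mem _ hE))

theorem normalClosure_conj {A : Subgroup G} (h : normalClosure (A : Set G) = ⊤) (x : G) :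
    normalClosure ((MulAut.conj x • A : Subgroup G) : Set G) = ⊤ := by
  rw [eq_top_iff, ← h]
  refine normalClosure_le_normal fun a ha => ?_
  have h1 : x * a * x⁻¹ ∈ normalClosure ((MulAut.conj x • A : Subgroup G) : Set G) :=
    subset_normalClosure (mem_conj.2 (by simpa [mul_assoc] using ha))
  have h2 := (normalClosure_normal (s := ((MulAut.conj x • A : Subgroup G) : Set G))).conj_mem _ h1
    x⁻¹
  simpa [mul_assoc] using h2

theorem Good.conj {A P : Subgroup G} (h : Good A P) (x : G) :
    Good (MulAut.conj x • A) (MulAut.conj x • P) := by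
  refine ⟨normalClosure_conj h.closure x, conj_isCoatom x h.coatom, fun y hy => ?_, ?_⟩
  · refine mem_conj.2 (h.norm (mem_normalizer_iff.2 fun a => ?_))
    have h1 := mem_normalizer_iff.1 hy (x * a * x⁻¹)
    rw [mem_conj, mem_conj] at h1
    simpa [mul_assoc] using h1
  · intro M hM hAM hne
    have h1 : A ≤ MulAut.conj x⁻¹ • M := fun a ha => by
      rw [mem_conj, inv_inv]
      exact hAM (mem_conj.2 (by simpa [mul_assoc] using ha))
    have h2 : MulAut.conj x⁻¹ • M ≠ P := fun he => hne (by
      rw [← he, conj_conj, mul_inv_cancel, map_one, one_smul])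
    have h3 := (h.sn _ (conj_isCoatom x⁻¹ hM) h1 h2).conj x
    rwa [conj_conj, mul_inv_cancel, map_one, one_smul] at h3

theorem normalizer_ne_top {A : Subgroup G} (hA : A ≠ ⊤) (hcl : normalClosure (A : Set G) = ⊤) :
    normalizer (A : Set G) ≠ ⊤ := fun he => by
  haveI : A.Normal := normalizer_eq_top_iff.1 he
  exact hA (by rw [← normalClosure_eq_self A, hcl])

/-- A subgroup subnormal in all but one of the maximal subgroups containing it is good. -/
theorem exists_good [Finite G] {A R : Subgroup G} (hcl : normalClosure (A : Set G) = ⊤)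
    (hR : IsCoatom R) (hAR : A ≤ R)
    (hsn : ∀ M : Subgroup G, IsCoatom M → A ≤ M → M ≠ R → SN A M) :
    ∃ P : Subgroup G, Good A P := by
  have hA : A ≠ ⊤ := fun h => hR.1 (top_le_iff.1 (h ▸ hAR))
  by_cases hRs : SN A R
  · obtain ⟨P, hP, hNP⟩ :=
      (eq_top_or_exists_le_coatom _).resolve_left (normalizer_ne_top hA hcl)
    refine ⟨P, hcl, hP, hNP, fun M hM hAM _ => ?_⟩
    by_cases hMR : M = R
    · exact hMR ▸ hRs
    · exact hsn M hM hAM hMR
  · refine ⟨R, hcl, hR, fun x hx => ?_, hsn⟩
    have hAx : MulAut.conj x • A = A := by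
      ext a
      rw [mem_conj]
      have h1 := mem_normalizer_iff.1 hx (x⁻¹ * a * x)
      simpa [mul_assoc] using h1
    have hAxi : MulAut.conj x⁻¹ • A = A := by
      conv_lhs => rw [← hAx, conj_conj, inv_mul_cancel, map_one, one_smul]
    have hRx : MulAut.conj x • R = R := by
      by_contra hne
      have hle : A ≤ MulAut.conj x • R := fun a ha => by
        rw [mem_conj]
        exact hAR (mem_conj.1 (hAx.symm ▸ ha))
      have h1 := (hsn _ (conj_isCoatom x hR) hle hne).conj x⁻¹
      rw [conj_conj, inv_mul_cancel, map_one, one_smul, hAxi] at h1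
      exact hRs h1
    have hxN : x ∈ normalizer (R : Set G) := Subnormal.mem_normalizer_of_conj_le hRx.le
    by_contra hxR
    have hlt : R < normalizer (R : Set G) :=
      lt_of_le_of_ne le_normalizer fun he => hxR (he ▸ hxN)
    haveI : R.Normal := normalizer_eq_top_iff.1 (hR.2 _ hlt)
    exact hR.1 (top_le_iff.1 (hcl ▸ normalClosure_le_normal hAR))

/-- A good subgroup lies in exactly one maximal subgroup. -/
theorem Good.unique [Finite G] : ∀ (n : ℕ) (A P : Subgroup G),
    Nat.card G - Nat.card A ≤ n → Good A P → ∀ M, IsCoatom M → A ≤ M → M = P := by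
  intro n
  induction n with
  | zero =>
    intro A P hn hA M hM hAM
    have h1 : A ≠ ⊤ := fun h => hM.1 (top_le_iff.1 (h ▸ hAM))
    have h2 : Nat.card A < Nat.card G :=
      lt_of_le_of_ne (card_le_card_group A) fun he => h1 (A.eq_top_of_card_eq he)
    omega
  | succ n ih =>
    intro A P hn hA M₀ hM₀ hAM₀
    by_contra hne₀
    -- the induction hypothesis, for larger subgroups
    have key : ∀ (F B R L₁ L₂ : Subgroup G), Nat.card F = Nat.card A → F < B →
        normalClosure (F : Set G) = ⊤ → IsCoatom R → B ≤ R →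
        (∀ M, IsCoatom M → B ≤ M → M ≠ R → SN B M) →
        IsCoatom L₁ → B ≤ L₁ → IsCoatom L₂ → B ≤ L₂ → L₁ = L₂ := by
      intro F B R L₁ L₂ hFc hFB hF hR hBR hsn hL₁ hB₁ hL₂ hB₂
      have hcl : normalClosure (B : Set G) = ⊤ :=
        top_le_iff.1 (hF ▸ normalClosure_mono hFB.le)
      obtain ⟨Q, hQ⟩ := exists_good hcl hR hBR hsn
      have hlt : Nat.card F < Nat.card B :=
        lt_of_le_of_ne (Subgroup.card_le_of_le hFB.le) fun he =>
          hFB.ne (eq_of_le_of_card_ge hFB.le he.ge)
      have hle : Nat.card B ≤ Nat.card G := card_le_card_group B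
      rw [ih B Q (by omega) hQ L₁ hL₁ hB₁, ih B Q (by omega) hQ L₂ hL₂ hB₂]
    -- conjugation fixing the maximal subgroup
    have Leq : ∀ (F R L : Subgroup G) (k : G), Nat.card F = Nat.card A → Good F R → k ∈ R →
        IsCoatom L → L ≠ R → F ≤ L → MulAut.conj k • F ≤ L → k ∈ normalizer (F : Set G) := by
      intro F R L k hFc hF hk hL hLR hFL hkL
      by_contra hkn
      have hkR : Good (MulAut.conj k • F) R := by
        have := hF.conj k
        rwa [conj_self hk] at this
      have hlt : F < F ⊔ MulAut.conj k • F :=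
        lt_of_le_of_ne le_sup_left fun he =>
          hkn (Subnormal.mem_normalizer_of_conj_le (le_sup_right.trans he.ge))
      exact hLR (key F _ R L R hFc hlt hF.closure hF.coatom (sup_le hF.le hkR.le)
        (fun M hM hBM hMR => SN.sup (le_sup_left.trans hBM) (le_sup_right.trans hBM)
          (hF.sn M hM (le_sup_left.trans hBM) hMR) (hkR.sn M hM (le_sup_right.trans hBM) hMR))
        hL (sup_le hFL hkL) hF.coatom (sup_le hF.le hkR.le))
    -- members of two maximal subgroups normalize each other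
    have mutual' : ∀ (F F' R R' L₁ L₂ : Subgroup G), Nat.card F = Nat.card A → Good F R →
        Good F' R' → IsCoatom L₁ → IsCoatom L₂ → L₁ ≠ L₂ → F ≤ L₁ → F ≤ L₂ → F' ≤ L₁ →
        F' ≤ L₂ → F' ≤ normalizer (F : Set G) := by
      intro F F' R R' L₁ L₂ hFc hF hF' hL₁ hL₂ h12 hF1 hF2 hF'1 hF'2
      have hR : F' ≤ R := by
        by_contra hF'R
        have hlt : F < F ⊔ F' := lt_of_le_of_ne le_sup_left fun he =>
          hF'R ((le_sup_right.trans he.ge).trans hF.le)
        have hsn : ∀ M, IsCoatom M → F ⊔ F' ≤ M → M ≠ R' → SN (F ⊔ F') M := by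
          intro M hM hBM hMR
          refine SN.sup (le_sup_left.trans hBM) (le_sup_right.trans hBM)
            (hF.sn M hM (le_sup_left.trans hBM) fun he => hF'R (he ▸ le_sup_right.trans hBM))
            (hF'.sn M hM (le_sup_right.trans hBM) hMR)
        by_cases hFR' : F ⊔ F' ≤ R'
        · exact h12 (key F _ R' L₁ L₂ hFc hlt hF.closure hF'.coatom hFR' hsn hL₁
            (sup_le hF1 hF'1) hL₂ (sup_le hF2 hF'2))
        · exact h12 (key F _ L₁ L₁ L₂ hFc hlt hF.closure hL₁ (sup_le hF1 hF'1)
            (fun M hM hBM _ => hsn M hM hBM fun he => hFR' (he ▸ hBM)) hL₁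
            (sup_le hF1 hF'1) hL₂ (sup_le hF2 hF'2))
      intro k hk
      have hconj : ∀ L : Subgroup G, F ≤ L → F' ≤ L → MulAut.conj k • F ≤ L := by
        intro L hFL hF'L y hy
        have h1 := L.mul_mem (L.mul_mem (hF'L hk) (hFL (mem_conj.1 hy))) (inv_mem (hF'L hk))
        simpa [mul_assoc] using h1
      by_cases h1 : L₁ = R
      · exact Leq F R L₂ k hFc hF (hR hk) hL₂ (fun h2 => h12 (h1.trans h2.symm)) hF2
          (hconj L₂ hF2 hF'2)
      · exact Leq F R L₁ k hFc hF (hR hk) hL₁ h1 hF1 (hconj L₁ hF1 hF'1)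
    -- members with the same exceptional maximal subgroup
    have same : ∀ (F F' R L : Subgroup G), Nat.card F = Nat.card A → Nat.card F' = Nat.card A →
        Good F R → Good F' R → IsCoatom L → L ≠ R → F ≤ L → F' ≤ L → F' = F := by
      intro F F' R L hFc hF'c hF hF' hL hLR hFL hF'L
      by_cases hle : F' ≤ F
      · exact eq_of_le_of_card_ge hle (by omega)
      · have hlt : F < F ⊔ F' :=
          lt_of_le_of_ne le_sup_left fun he => hle (le_sup_right.trans he.ge)
        exact absurd (key F _ R L R hFc hlt hF.closure hF.coatom (sup_le hF.le hF'.le)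
          (fun M hM hBM hMR => SN.sup (le_sup_left.trans hBM) (le_sup_right.trans hBM)
            (hF.sn M hM (le_sup_left.trans hBM) hMR) (hF'.sn M hM (le_sup_right.trans hBM) hMR))
          hL (sup_le hFL hF'L) hF.coatom (sup_le hF.le hF'.le)) hLR
    -- a pair of maximal subgroups with as many common members as possible
    let mem : Subgroup G → Subgroup G → Set (Subgroup G) :=
      fun L₁ L₂ => {F | (∃ x : G, F = MulAut.conj x • A) ∧ F ≤ L₁ ∧ F ≤ L₂}
    let Pairs := {p : Subgroup G × Subgroup G //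
      IsCoatom p.1 ∧ IsCoatom p.2 ∧ p.1 ≠ p.2 ∧ (mem p.1 p.2).Nonempty}
    haveI : Nonempty Pairs := ⟨⟨(M₀, P), hM₀, hA.coatom, hne₀,
      ⟨A, ⟨1, by simp⟩, hAM₀, hA.le⟩⟩⟩
    obtain ⟨⟨⟨L₁, L₂⟩, hL₁, hL₂, h12, hne⟩, hmax⟩ :=
      Finite.exists_max (fun p : Pairs => (mem p.1.1 p.1.2).ncard)
    change (mem L₁ L₂).Nonempty at hne
    change ∀ p : Pairs, (mem p.1.1 p.1.2).ncard ≤ (mem L₁ L₂).ncard at hmax
    change L₁ ≠ L₂ at h12
    set S := mem L₁ L₂
    have hcard : ∀ F ∈ S, Nat.card F = Nat.card A := by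
      rintro F ⟨⟨x, rfl⟩, -⟩
      exact Subnormal.card_conj x A
    have hgood : ∀ F ∈ S, ∃ R, Good F R := by
      rintro F ⟨⟨x, rfl⟩, -⟩
      exact ⟨_, hA.conj x⟩
    have hS : ∀ L M, IsCoatom L → IsCoatom M → L ≠ M → (∀ F ∈ S, F ≤ L ∧ F ≤ M) →
        ∀ (x : G) (F : Subgroup G), F ∈ S → MulAut.conj x • F ≤ L → MulAut.conj x • F ≤ M →
          MulAut.conj x • F ∈ S := by
      intro L M hL hM hLM hle x F hF hxL hxM
      have hsub : S ⊆ mem L M := fun E hE => ⟨hE.1, hle E hE⟩
      have heq : S = mem L M := Set.eq_of_subset_of_ncard_le hsub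
        (hmax ⟨(L, M), hL, hM, hLM, hne.mono hsub⟩) (Set.toFinite _)
      obtain ⟨y, rfl⟩ := hF.1
      rw [heq]
      exact ⟨⟨x * y, conj_conj x y A⟩, hxL, hxM⟩
    have hnorm : ∀ F ∈ S, ∀ E ∈ S, E ≤ normalizer (F : Set G) := by
      intro F hF E hE
      obtain ⟨R, hR⟩ := hgood F hF
      obtain ⟨R', hR'⟩ := hgood E hE
      exact mutual' F E R R' L₁ L₂ (hcard F hF) hR hR' hL₁ hL₂ h12 hF.2.1 hF.2.2 hE.2.1 hE.2.2
    set Z := sSup S with hZ
    have hZ1 : Z ≤ L₁ := sSup_le fun F hF => hF.2.1
    have hNZ : normalizer (Z : Set G) ≠ ⊤ := by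
      intro he
      haveI : Z.Normal := normalizer_eq_top_iff.1 he
      obtain ⟨F, hF⟩ := hne
      obtain ⟨R, hR⟩ := hgood F hF
      exact hL₁.1 (top_le_iff.1 (hR.closure ▸
        (normalClosure_le_normal (le_sSup hF : F ≤ Z)).trans hZ1))
    obtain ⟨L, M, hL, hM, hLM, hNM, hle, E₀, hE₀, R₀, hR₀, hR₀L⟩ : ∃ L M, IsCoatom L ∧
        IsCoatom M ∧ L ≠ M ∧ normalizer (Z : Set G) ≤ M ∧ (∀ F ∈ S, F ≤ L ∧ F ≤ M) ∧
        ∃ E ∈ S, ∃ R, Good E R ∧ R ≠ L := by
      by_cases hsub : S.Subsingleton
      · obtain ⟨F, hF⟩ := hne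
        obtain ⟨R, hR⟩ := hgood F hF
        have hZF : Z = F := by rw [hZ, hsub.eq_singleton_of_mem hF, sSup_singleton]
        by_cases h1 : L₁ = R
        · refine ⟨L₂, R, hL₂, hR.coatom, fun h2 => h12 (h1.trans h2.symm), hZF ▸ hR.norm,
            fun E hE => ⟨hE.2.2, h1 ▸ hE.2.1⟩, F, hF, R, hR, fun h2 => h12 (h1.trans h2)⟩
        · refine ⟨L₁, R, hL₁, hR.coatom, h1, hZF ▸ hR.norm,
            fun E hE => ⟨hE.2.1, hsub hF hE ▸ hR.le⟩, F, hF, R, hR, Ne.symm h1⟩
      · obtain ⟨M, hM, hNM⟩ := (eq_top_or_exists_le_coatom _).resolve_left hNZ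
        have hSM : ∀ F ∈ S, F ≤ M := fun F hF =>
          ((le_sSup hF).trans le_normalizer).trans hNM
        obtain ⟨L, hL, hLM, hSL⟩ : ∃ L, IsCoatom L ∧ L ≠ M ∧ ∀ F ∈ S, F ≤ L := by
          by_cases h1 : L₁ = M
          · exact ⟨L₂, hL₂, fun h2 => h12 (h1.trans h2.symm), fun F hF => hF.2.2⟩
          · exact ⟨L₁, hL₁, h1, fun F hF => hF.2.1⟩
        refine ⟨L, M, hL, hM, hLM, hNM, fun F hF => ⟨hSL F hF, hSM F hF⟩, ?_⟩
        by_contra hall
        push Not at hall
        refine hsub fun F hF E hE => ?_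
        obtain ⟨R, hR⟩ := hgood F hF
        obtain ⟨R', hR'⟩ := hgood E hE
        obtain rfl := hall F hF R hR
        obtain rfl := hall E hE R' hR'
        exact same E F _ M (hcard E hE) (hcard F hF) hR' hR hM (Ne.symm hLM) (hSM E hE) (hSM F hF)
    set S' := {F | F ∈ S ∧ ∃ R, Good F R ∧ R ≠ L}
    set U := sSup S' with hU
    have hUL : U ≤ L := sSup_le fun F hF => (hle F hF.1).1
    have hUM : U ≤ M := sSup_le fun F hF => (hle F hF.1).2
    have hUsn : SN U L := sn_sSup S' fun F hF => by
      obtain ⟨R, hR, hne'⟩ := hF.2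
      exact ⟨(hle F hF.1).1, hR.sn L hL (hle F hF.1).1 (Ne.symm hne')⟩
    have hmove : ∀ x ∈ L, MulAut.conj x • U ≤ M →
        ∀ F ∈ S', MulAut.conj x • F ∈ S' := by
      intro x hxL hxM F hF
      refine ⟨hS L M hL hM hLM hle x F hF.1 ?_ ?_, ?_⟩
      · rw [← conj_self hxL]
        exact pointwise_smul_le_pointwise_smul_iff.2 (hle F hF.1).1
      · exact (pointwise_smul_le_pointwise_smul_iff.2 (le_sSup hF)).trans hxM
      · obtain ⟨R, hR, hne'⟩ := hF.2
        refine ⟨_, hR.conj x, fun he => hne' ?_⟩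
        rw [← conj_self hxL] at he
        exact smul_left_cancel _ he
    have hNU : normalizer (U : Set G) ⊓ L ≤ M := by
      rintro g ⟨hgU, hgL⟩
      have hgUle : MulAut.conj g • U ≤ M := by
        intro y hy
        have h1 := (mem_normalizer_iff.1 hgU (g⁻¹ * y * g)).1 (mem_conj.1 hy)
        exact hUM (by simpa [mul_assoc] using h1)
      have hperm := hmove g hgL hgUle
      refine hNM (Subnormal.mem_normalizer_of_conj_le ?_)
      rw [pointwise_smul_subset_iff, hZ]
      refine sSup_le fun F hF => ?_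
      rw [← pointwise_smul_subset_iff]
      by_cases hF' : F ∈ S'
      · exact le_sSup (hperm F hF').1
      · obtain ⟨R, hR⟩ := hgood F hF
        have hRL : R = L := by_contra fun h => hF' ⟨hF, R, hR, h⟩
        subst hRL
        obtain ⟨hE, RE, hRE, hREne⟩ := hperm E₀ ⟨hE₀, R₀, hR₀, hR₀L⟩
        have h1 : F ≤ RE := (hnorm _ hE F hF).trans hRE.norm
        have h2 : MulAut.conj g • F ≤ RE := by
          intro y hy
          refine hRE.norm (mem_normalizer_iff.2 fun e => ?_)
          have h3 := mem_normalizer_iff.1 (hnorm E₀ hE₀ F hF (mem_conj.1 hy)) (g⁻¹ * e * g)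
          rw [mem_conj, mem_conj]
          simpa [mul_assoc] using h3
        have hgF := Leq F R RE g (hcard F hF) hR hgL hRE.coatom hREne h1 h2
        have heq : MulAut.conj g • F = F := by
          ext y
          rw [mem_conj]
          have h4 := mem_normalizer_iff.1 hgF (g⁻¹ * y * g)
          simpa [mul_assoc] using h4
        rw [heq]
        exact le_sSup hF
    rcases Subnormal.exists_conj_le_normalizer L hUL hUsn with hn' | ⟨x, hxL, hxn, hxU⟩
    · have hLle : L ≤ M := fun g hg => hNU ⟨hn' hg, hg⟩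
      exact hM.1 (hL.2 M (lt_of_le_of_ne hLle hLM))
    · have hxUL : MulAut.conj x • U ≤ L := by
        rw [← conj_self hxL]
        exact pointwise_smul_le_pointwise_smul_iff.2 hUL
      have hperm := hmove x hxL (fun y hy => hNU ⟨hxU hy, hxUL hy⟩)
      refine hxn (Subnormal.mem_normalizer_of_conj_le ?_)
      rw [pointwise_smul_subset_iff, hU]
      refine sSup_le fun F hF => ?_
      rw [← pointwise_smul_subset_iff]
      exact le_sSup (hperm F hF)

/-- A subgroup subnormal in all but one of the maximal subgroups containing it lies in only one. -/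
theorem eq_of_forall_sn [Finite G] {A R L : Subgroup G} (hcl : normalClosure (A : Set G) = ⊤)
    (hR : IsCoatom R) (hAR : A ≤ R)
    (hsn : ∀ M : Subgroup G, IsCoatom M → A ≤ M → M ≠ R → SN A M)
    (hL : IsCoatom L) (hAL : A ≤ L) : L = R := by
  obtain ⟨P, hP⟩ := exists_good hcl hR hAR hsn
  rw [Good.unique _ A P le_rfl hP L hL hAL, Good.unique _ A P le_rfl hP R hR hAR]

/-- The subgroups containing `A` and generated by their own conjugates of `A`. -/
def family (A : Subgroup G) : Set (Subgroup G) :=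
  {H | A ≤ H ∧ H ≠ ⊤ ∧ normalClosure ((A.subgroupOf H : Subgroup ↥H) : Set ↥H) = ⊤}

/-- The iterated normal closure of `A` in `K`. -/
theorem exists_mem_family [Finite G] {A : Subgroup G} : ∀ K : Subgroup G, A ≤ K → K ≠ ⊤ →
    ∃ H ∈ family A, H ≤ K ∧ SN H K := by
  intro K
  induction K using WellFoundedLT.induction with
  | ind K ih =>
    intro hAK hK
    set N := normalClosure ((A.subgroupOf K : Subgroup ↥K) : Set ↥K) with hN
    by_cases hNt : N = ⊤
    · refine ⟨K, ⟨hAK, hK, hNt⟩, le_rfl, ?_⟩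
      unfold SN
      rw [subgroupOf_self]
      exact IsSubnormal.top
    set N' := N.map K.subtype with hN'
    have hle : N' ≤ K := map_subtype_le N
    have hlt : N' < K := by
      refine lt_of_le_of_ne hle fun he => hNt (eq_top_iff.mpr fun y _ => ?_)
      obtain ⟨z, hz, hzy⟩ := mem_map.mp (he.ge y.2)
      rwa [← K.subtype_injective hzy]
    have hAN : A ≤ N' := fun a ha =>
      mem_map.mpr ⟨⟨a, hAK ha⟩, subset_normalClosure (mem_subgroupOf.2 ha), rfl⟩
    obtain ⟨H, hH, hHN, hsn⟩ := ih N' hlt hAN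
      (fun h => hK (top_le_iff.1 (h ▸ hle)))
    refine ⟨H, hH, hHN.trans hle, ?_⟩
    have hN'K : N'.subgroupOf K = N := by
      ext y
      rw [mem_subgroupOf, hN']
      exact ⟨fun h => by
        obtain ⟨z, hz, hzy⟩ := mem_map.mp h
        rwa [← K.subtype_injective hzy], fun h => mem_map.mpr ⟨y, h, rfl⟩⟩
    refine IsSubnormal.trans (K := N'.subgroupOf K) (fun y hy => ?_) ?_
      (hN'K ▸ normalClosure_normal.isSubnormal)
    · exact hHN hy
    · let f : ↥(N'.subgroupOf K) →* ↥N' :=
        { toFun := fun y => ⟨((y : K) : G), y.2⟩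
          map_one' := rfl
          map_mul' := fun _ _ => rfl }
      exact IsSubnormal.comap f hsn

/-- The normal closure in a larger subgroup contains the one in the smaller. -/
theorem le_map_normalClosure {A H K : Subgroup G} (hHK : H ≤ K)
    (hH : normalClosure ((A.subgroupOf H : Subgroup ↥H) : Set ↥H) = ⊤) :
    H ≤ (normalClosure ((A.subgroupOf K : Subgroup ↥K) : Set ↥K)).map K.subtype := by
  intro h hh
  have h1 : normalClosure ((A.subgroupOf H : Subgroup ↥H) : Set ↥H) ≤
      (normalClosure ((A.subgroupOf K : Subgroup ↥K) : Set ↥K)).comap (inclusion hHK) :=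
    normalClosure_le_normal fun a ha => subset_normalClosure ha
  exact mem_map.mpr ⟨⟨h, hHK hh⟩, h1 (hH ▸ mem_top (⟨h, hh⟩ : H)), rfl⟩

theorem eq_of_join_ne_top [Finite G] : ∀ A : Subgroup G, normalClosure (A : Set G) = ⊤ →
    A ≠ ⊤ → sSup (family A) ≠ ⊤ → ∀ L M : Subgroup G, IsCoatom L → A ≤ L → IsCoatom M → A ≤ M →
    L = M := by
  intro A
  induction A using WellFoundedGT.induction with
  | ind A ih =>
    intro hcl hA hY L M hL hAL hM hAM
    have hAf : A ∈ family A := ⟨le_rfl, hA, by
      rw [subgroupOf_self]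
      exact top_le_iff.1 le_normalClosure⟩
    have hAY : A ≤ sSup (family A) := le_sSup hAf
    have hYcl : normalClosure ((A.subgroupOf (sSup (family A)) : Subgroup ↥(sSup (family A))) :
        Set ↥(sSup (family A))) = ⊤ := by
      set Y := sSup (family A) with hYdef
      have h1 : Y ≤ (normalClosure ((A.subgroupOf Y : Subgroup ↥Y) : Set ↥Y)).map Y.subtype :=
        sSup_le fun H hH => le_map_normalClosure (le_sSup hH) hH.2.2
      refine eq_top_iff.mpr fun y _ => ?_
      obtain ⟨z, hz, hzy⟩ := mem_map.mp (h1 y.2)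
      rwa [← Y.subtype_injective hzy]
    have hYf : sSup (family A) ∈ family A := ⟨hAY, hY, hYcl⟩
    have large : ∀ H ∈ family A, A < H → ∀ L M : Subgroup G, IsCoatom L → H ≤ L → IsCoatom M →
        H ≤ M → L = M := by
      intro H hH hAH
      refine ih H hAH (top_le_iff.1 (hcl ▸ normalClosure_mono hAH.le)) hH.2.1 fun htop => ?_
      refine hY (top_le_iff.1 (htop ▸ sSup_le fun K hK => le_sSup ⟨hAH.le.trans hK.1, hK.2.1, ?_⟩))
      refine top_le_iff.1 (hK.2.2 ▸ normalClosure_le_normal fun y hy => ?_)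
      obtain ⟨z, hz, hzy⟩ := mem_map.mp (le_map_normalClosure hK.1 hH.2.2 hy)
      rwa [← K.subtype_injective hzy]
    obtain ⟨R, hR, hYR⟩ := (eq_top_or_exists_le_coatom _).resolve_left hY
    have hsn : ∀ N : Subgroup G, IsCoatom N → A ≤ N → N ≠ R → SN A N := by
      intro N hN hAN hNR
      obtain ⟨H, hH, hHN, hsn⟩ := exists_mem_family N hAN hN.1
      by_cases hHA : H = A
      · exact hHA ▸ hsn
      · exact absurd (large H hH (lt_of_le_of_ne hH.1 (Ne.symm hHA)) N R hN hHN hR
          ((le_sSup hH).trans hYR)) hNR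
    rw [eq_of_forall_sn hcl hR (hAY.trans hYR) hsn hL hAL,
      eq_of_forall_sn hcl hR (hAY.trans hYR) hsn hM hAM]

end Cfsg.Agent.Zipper62
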